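import Groth.Agent.PCThickLib.Nilp
import Groth.Agent.DRingLib.WeaklyEtaleAmp

/-!
# Tor amplitude over the base along a nilpotent thickening of the base
-/

set_option autoImplicit false
set_option linter.style.haveILetI false
set_option backward.isDefEq.respectTransparency false
set_option maxHeartbeats 1000000

universe u

open CategoryTheory Limits MonoidalCategory TensorProduct
open ChangeOfRings
attribute [local instance] HasDerivedCategory.standard

noncomputable section

namespace Groth.Agent.PCThick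

open Groth.Agent.DRingLib Groth.Agent.DCohLib Groth.Agent.DTenLib

variable {A' A B' B : Type u} [CommRing A'] [CommRing A] [CommRing B'] [CommRing B]
  (φ : A' →+* A) (χ : A' →+* B') (ψ : B' →+* B) (γ : A →+* B) (hc : γ.comp φ = ψ.comp χ)

/-- Extension of scalars along a surjection. -/
theorem one_tmul_mem (hψ : Function.Surjective ψ) (M : ModuleCat.{u} B') (z : (ModuleCat.extendScalars.{u, u, u} ψ).obj M) :
    ∃ m : M, z = (1 : B) ⊗ₜ[B',ψ] m := by
  letI := ψ.toAlgebra
  obtain ⟨m, hm⟩ := TensorProduct.mk_surjective B' M B hψ z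
  exact ⟨m, hm.symm⟩

theorem mem_smul_top_of_one_tmul (hψ : Function.Surjective ψ) (M : ModuleCat.{u} B') (m : M)
    (h : (1 : B) ⊗ₜ[B',ψ] m = (0 : (ModuleCat.extendScalars.{u, u, u} ψ).obj M)) :
    m ∈ RingHom.ker ψ • (⊤ : Submodule B' M) := by
  letI := ψ.toAlgebra
  let e : (B' ⧸ RingHom.ker ψ) ≃ₗ[B'] B :=
    (Ideal.quotientKerAlgEquivOfSurjective (f := Algebra.ofId B' B) hψ).toLinearEquiv
  have h1 : (Ideal.Quotient.mk (RingHom.ker ψ) 1) ⊗ₜ[B'] m = 0 := (e.rTensor M).injective (by
    rw [LinearEquiv.rTensor_tmul, map_zero]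
    have he : e (Ideal.Quotient.mk (RingHom.ker ψ) 1) = 1 := map_one (Ideal.quotientKerAlgEquivOfSurjective (f := Algebra.ofId B' B) hψ)
    rw [he]
    exact h)
  have h2 := congrArg (TensorProduct.quotTensorEquivQuotSMul M (RingHom.ker ψ)) h1
  rw [map_zero, TensorProduct.quotTensorEquivQuotSMul_mk_tmul, one_smul] at h2
  exact (Submodule.Quotient.mk_eq_zero _).1 h2

/-- The comparison of the two extensions of scalars. -/
def squareApp (M : ModuleCat.{u} B') :
    (ModuleCat.extendScalars.{u, u, u} φ).obj ((ModuleCat.restrictScalars.{u} χ).obj M) ⟶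
      (ModuleCat.restrictScalars.{u} γ).obj ((ModuleCat.extendScalars.{u, u, u} ψ).obj M) :=
  ((ModuleCat.extendRestrictScalarsAdj φ).homEquiv _ _).symm (ModuleCat.ofHom
    (Y := ((ModuleCat.restrictScalars.{u} φ).obj ((ModuleCat.restrictScalars.{u} γ).obj
      ((ModuleCat.extendScalars.{u, u, u} ψ).obj M))))
    (X := ((ModuleCat.restrictScalars.{u} χ).obj M))
    { toFun := fun m => (1 : B) ⊗ₜ[B',ψ] (show M from m)
      map_add' := fun _ _ => TensorProduct.tmul_add _ _ _
      map_smul' := fun a m => by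
        letI := ψ.toAlgebra
        show (1 : B) ⊗ₜ[B'] (χ a • (show M from m)) = γ (φ a) • ((1 : B) ⊗ₜ[B'] (show M from m))
        rw [TensorProduct.tmul_smul, show γ (φ a) = ψ (χ a) from RingHom.congr_fun hc a]
        exact (TensorProduct.smul_tmul' (χ a) (1 : B) (show M from m)).trans
          ((congrArg (· ⊗ₜ[B'] (show M from m)) (show χ a • (1 : B) = ψ (χ a) • (1 : B) from
            algebraMap_smul B (χ a) (1 : B) |>.symm)).trans
            (TensorProduct.smul_tmul' (ψ (χ a)) (1 : B) (show M from m)).symm) })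

theorem squareApp_one_tmul (M : ModuleCat.{u} B') (m : M) :
    (squareApp φ χ ψ γ hc M).hom ((1 : A) ⊗ₜ[A',φ] m) = ((1 : B) ⊗ₜ[B',ψ] m) := by
  exact one_smul A (show ((ModuleCat.restrictScalars.{u} γ).obj ((ModuleCat.extendScalars.{u, u, u} ψ).obj M) : Type u) from (1 : B) ⊗ₜ[B',ψ] m)

theorem bijective_squareApp (hφ : Function.Surjective φ) (hψ : Function.Surjective ψ)
    (hker : RingHom.ker ψ = (RingHom.ker φ).map χ) (M : ModuleCat.{u} B') :
    Function.Bijective (squareApp φ χ ψ γ hc M).hom := by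
  refine ⟨(injective_iff_map_eq_zero _).2 fun z hz => ?_, fun w => ?_⟩
  · obtain ⟨m, rfl⟩ := one_tmul_mem φ hφ ((ModuleCat.restrictScalars.{u} χ).obj M) z
    erw [squareApp_one_tmul] at hz
    have h1 := mem_smul_top_of_one_tmul ψ hψ M m hz
    rw [hker] at h1
    letI := φ.toAlgebra
    have key : ∀ n ∈ (RingHom.ker φ).map χ • (⊤ : Submodule B' M),
        (1 : A) ⊗ₜ[A',φ] (show ((ModuleCat.restrictScalars.{u} χ).obj M : Type u) from n) = 0 := by
      intro n hn
      refine Submodule.smul_induction_on hn (fun r hr x _ => ?_) fun x y hx hy =>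
        (TensorProduct.tmul_add _ _ _).trans (by erw [hx, hy]; exact add_zero _)
      revert x
      refine Submodule.span_induction (p := fun r _ => ∀ x : M, x ∈ (⊤ : Submodule B' M) → (1 : A) ⊗ₜ[A',φ]
          (show ((ModuleCat.restrictScalars.{u} χ).obj M : Type u) from r • x) = 0)
        (fun r hr x _ => ?_) (fun x _ => ?_)
        (fun a b _ _ ha hb x hx => ?_) (fun c a _ ha x hx => ?_) hr
      · obtain ⟨t, ht, rfl⟩ := hr
        refine (TensorProduct.tmul_smul t (1 : A) (show ((ModuleCat.restrictScalars.{u} χ).obj M : Type u) from x)).trans ?_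
        refine (TensorProduct.smul_tmul' t (1 : A) _).trans ?_
        show (φ t * 1) ⊗ₜ[A',φ] _ = 0
        rw [(RingHom.mem_ker).1 ht, zero_mul]
        exact TensorProduct.zero_tmul _ _
      · rw [zero_smul]
        exact TensorProduct.tmul_zero _ _
      · rw [add_smul]
        exact (TensorProduct.tmul_add _ _ _).trans (by erw [ha x hx, hb x hx]; exact add_zero _)
      · rw [smul_eq_mul, mul_comm, mul_smul]
        exact ha (c • x) trivial
    exact key m h1
  · obtain ⟨m, rfl⟩ := one_tmul_mem ψ hψ M w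
    exact ⟨_, squareApp_one_tmul φ χ ψ γ hc M m⟩

/-- The square of functors. -/
def squareIso (hφ : Function.Surjective φ) (hψ : Function.Surjective ψ)
    (hker : RingHom.ker ψ = (RingHom.ker φ).map χ) :
    ModuleCat.restrictScalars.{u} χ ⋙ ModuleCat.extendScalars.{u, u, u} φ ≅
      ModuleCat.extendScalars.{u, u, u} ψ ⋙ ModuleCat.restrictScalars.{u} γ :=
  haveI : ∀ M, IsIso (squareApp φ χ ψ γ hc M) := fun M =>
    (ConcreteCategory.isIso_iff_bijective _).2 (bijective_squareApp φ χ ψ γ hc hφ hψ hker M)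
  NatIso.ofComponents (fun M => asIso (squareApp φ χ ψ γ hc M)) fun {M N} f => by
    refine ModuleCat.hom_ext (LinearMap.ext fun z => ?_)
    obtain ⟨m, rfl⟩ := one_tmul_mem φ hφ ((ModuleCat.restrictScalars.{u} χ).obj M) z
    show (squareApp φ χ ψ γ hc N).hom ((1 : A) ⊗ₜ[A',φ] (f m)) =
      ((ModuleCat.extendScalars.{u, u, u} ψ).map f).hom ((squareApp φ χ ψ γ hc M).hom ((1 : A) ⊗ₜ[A',φ] m))
    erw [squareApp_one_tmul]

include hc in
/-- Tor amplitude over the base lifts along a nilpotent thickening of the base. -/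
theorem amp_restrict_of_square (hφ : Function.Surjective φ) (hn : IsNilpotent (RingHom.ker φ))
    (hψ : Function.Surjective ψ) (hker : RingHom.ker ψ = (RingHom.ker φ).map χ)
    (hflat : χ.Flat) {P : DRing.Cx B'} (hP : DRing.IsKFlat B' P)
    {a b : ℤ} (h : letI := ψ.toAlgebra
      DRing.HasTorAmplitudeIn A a b (DRing.toD ((DTen.resCx γ).obj
        (((bcF B' B).mapHomologicalComplex (ComplexShape.up ℤ)).obj P)))) :
    DRing.HasTorAmplitudeIn A' a b (DRing.toD ((DTen.resCx χ).obj P)) := by
  letI := ψ.toAlgebra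
  haveI : DRing.HasLBaseChange φ := DRingLib.hasLBaseChange φ
  have hK : DRing.IsKFlat A' ((DTen.resCx χ).obj P) := by
    refine isKFlat_resCx χ ?_ hP
    letI := χ.toAlgebra
    haveI : Module.Flat A' B' := RingHom.flat_algebraMap_iff.1 hflat
    exact Module.Flat.of_linearEquiv (baseModEquiv A' B')
  let bcExtIso : bcF B' B ≅ ModuleCat.extendScalars.{u, u, u} ψ :=
    NatIso.ofComponents (fun M => Iso.refl ((bcF B' B).obj M) :) fun f => by
      refine ModuleCat.hom_ext (LinearMap.ext fun z => ?_)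
      rfl
  refine amp_of_lbc_nilpotent φ hφ hn (amp_of_iso ?_ h)
  refine DerivedCategory.Q.mapIso ?_ ≪≫ (lbcIso φ _ hK).symm
  exact (DTen.resCx γ).mapIso ((NatIso.mapHomologicalComplex bcExtIso _).app P) ≪≫
    (mapCxSquareIso (ModuleCat.restrictScalars.{u} χ) (ModuleCat.extendScalars.{u, u, u} φ)
      (ModuleCat.extendScalars.{u, u, u} ψ) (ModuleCat.restrictScalars.{u} γ)
      (squareIso φ χ ψ γ hc hφ hψ hker) P).symm

end Groth.Agent.PCThick
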