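import Groth.Agent.PCThickLib.Main
import Groth.Agent.PCThickLib.Square
import Groth.Agent.ThickBC.Basic
import Groth.Agent.IdealStalkLib.Comap
import Groth.Agent.DerSchH7.Amp

/-!
# Relative perfectness descends along thickenings of the base
-/

set_option autoImplicit false
set_option linter.style.haveILetI false
set_option maxHeartbeats 1000000
set_option backward.isDefEq.respectTransparency false

universe u

open CategoryTheory CategoryTheory.Limits AlgebraicGeometry TopologicalSpace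

attribute [local instance] HasDerivedCategory.standard

noncomputable section

namespace Groth.Agent.PCThick

open Groth.Agent.DCohLib Groth.Agent.DRingLib

variable {X X' Y Y' : Scheme.{u}}

theorem ker_stalkMap_eq (j : Y ⟶ Y') [IsClosedImmersion j] (z : Y) :
    RingHom.ker (j.stalkMap z).hom = IntMult.stalkIdeal j.ker (j z) := by
  obtain ⟨U, hU, hzU, -⟩ := exists_isAffineOpen_mem_and_subset (X := Y') (x := j z) (U := ⊤) trivial
  rw [IdealStalkLib.stalkIdeal_eq j.ker ⟨U, hU⟩ (j z) hzU, Scheme.Hom.ker_apply]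
  exact RegIdealLib.ker_stalkMap j hU
    (MorphismProperty.of_isPullback (isPullback_morphismRestrict j U).flip ‹_›) z hzU

/-- The data of the square of local rings. -/
theorem exists_stalk_square {f : X ⟶ Y} {f' : X' ⟶ Y'} {i : X ⟶ X'} {j : Y ⟶ Y'} (sq : IsPullback i f f' j)
    (hj : MoreMor.IsFiniteOrderThickening j) (x : X) :
    ∃ φ : Y'.presheaf.stalk (f' (i x)) →+* Y.presheaf.stalk (f x),
      Function.Surjective φ ∧ IsNilpotent (RingHom.ker φ) ∧
      (f.stalkMap x).hom.comp φ = (i.stalkMap x).hom.comp (f'.stalkMap (i x)).hom ∧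
      RingHom.ker (i.stalkMap x).hom = (RingHom.ker φ).map (f'.stalkMap (i x)).hom := by
  haveI := hj.1.1
  haveI : IsClosedImmersion i := MorphismProperty.of_isPullback sq.flip ‹_›
  have key : ∀ (z : Y) (y' : Y') (e : j z = y'), ∃ φ : Y'.presheaf.stalk y' →+* Y.presheaf.stalk z,
      Function.Surjective φ ∧ IsNilpotent (RingHom.ker φ) ∧ RingHom.ker φ = IntMult.stalkIdeal j.ker y' ∧
      φ = ((Y'.presheaf.stalkSpecializes (specializes_of_eq e)) ≫ j.stalkMap z).hom := by
    rintro z _ rfl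
    exact ⟨(j.stalkMap z).hom, ((nilImm_of_thickening j hj).2 z).1, ((nilImm_of_thickening j hj).2 z).2,
      ker_stalkMap_eq j z, by simp⟩
  have hxy : j (f x) = f' (i x) := by
    rw [← Scheme.Hom.comp_apply, ← Scheme.Hom.comp_apply, sq.w]
  obtain ⟨φ, h1, h2, h3, h4⟩ := key (f x) (f' (i x)) hxy
  refine ⟨φ, h1, h2, ?_, ?_⟩
  · rw [h4, ← CommRingCat.hom_comp, ← CommRingCat.hom_comp]
    refine congrArg CommRingCat.Hom.hom ?_
    rw [Category.assoc, ← Scheme.Hom.stalkMap_comp, ← Scheme.Hom.stalkMap_comp,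
      Scheme.Hom.stalkMap_congr_hom (i ≫ f') (f ≫ j) sq.w x, TopCat.Presheaf.stalkCongr_hom]
  · rw [ker_stalkMap_eq i x, ThickBC.ker_of_isPullback sq, IdealStalkLib.stalkIdeal_comap, h3]

theorem nilImm_of_isPullback {f : X ⟶ Y} {f' : X' ⟶ Y'} {i : X ⟶ X'} {j : Y ⟶ Y'} (sq : IsPullback i f f' j)
    (hj : MoreMor.IsFiniteOrderThickening j) : NilImm i := by
  haveI := hj.1.1
  haveI := hj.1.2
  haveI : IsClosedImmersion i := MorphismProperty.of_isPullback sq.flip ‹_›
  haveI : Surjective i := MorphismProperty.of_isPullback sq.flip ‹_›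
  refine ⟨(isHomeomorph_iff_isEmbedding_surjective).2 ⟨i.isClosedEmbedding.isEmbedding, i.surjective⟩,
    fun x => ⟨i.stalkMap_surjective x, ?_⟩⟩
  obtain ⟨φ, -, ⟨n, hn⟩, -, h⟩ := exists_stalk_square sq hj x
  refine ⟨n, ?_⟩
  rw [h, ← Ideal.map_pow, hn]
  simp

/-- Tor amplitude over the base lifts along a thickening of the base. -/
theorem hasTorAmplitudeAt_of_lpull {f : X ⟶ Y} {f' : X' ⟶ Y'} {i : X ⟶ X'} {j : Y ⟶ Y'} (sq : IsPullback i f f' j)
    [Flat f'] (hj : MoreMor.IsFiniteOrderThickening j) [DCoh.HasLpull i] {E : CochainComplex X'.Modules ℤ}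
    {F : CochainComplex X.Modules ℤ} (e : DCoh.toD X F ≅ (DCoh.Lpull i).obj (DCoh.toD X' E)) {a b : ℤ} (x : X)
    (h : DerSch.HasTorAmplitudeAt f a b F x) : DerSch.HasTorAmplitudeAt f' a b E (i x) := by
  let K := DCoh.toD X' E
  let P := (resX X').obj (DerivedCategory.Q.objPreimage K)
  have hP : DCoh.IsKFlat P := isKFlat_resX _
  obtain ⟨φ, h1, h2, h3, h4⟩ := exists_stalk_square sq hj x
  refine DerSchH7.hasTorAmplitudeAt_congr f' (resXIso K) ?_
  have hA := DerSchH7.hasTorAmplitudeAt_congr f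
    (e ≪≫ (DCoh.Lpull i).mapIso (resXIso K).symm ≪≫ lpullIso i P hP (isFlat_resX _)) h
  refine amp_of_iso (DerivedCategory.Q.mapIso (DerSchH7.stalkCxOverResIso f' (i x) P)).symm ?_
  refine amp_restrict_of_square φ (f'.stalkMap (i x)).hom (i.stalkMap x).hom (f.stalkMap x).hom h3 h1 h2
    (nilImm_of_isPullback sq hj |>.2 x).1 h4 (Flat.stalkMap f' (i x)) ((isKFlat_iff_stalk P).1 hP (i x)) ?_
  letI := (i.stalkMap x).hom.toAlgebra
  exact amp_of_iso (DerivedCategory.Q.mapIso (DerSchH7.stalkCxOverResIso f x _ ≪≫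
    (DTen.resCx (f.stalkMap x).hom).mapIso (mapCxSquareIso (Scheme.Modules.pullback i) (stkF x) (stkF (i x))
      (bcF (X'.presheaf.stalk (i x)) (X.presheaf.stalk x)) (pullStalkNatIso i x) P))) hA

end Groth.Agent.PCThick
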