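import Groth.Agent.PCThickLib.Nilp
import Groth.Agent.DCohMore.DescFPPF
import Groth.Agent.RegIdealLib.Immersion
import Groth.Agent.DerSchH7.TensorPull

/-!
# Pseudo-coherence descends along thickenings of finite order
-/

set_option autoImplicit false
set_option linter.style.haveILetI false
set_option maxHeartbeats 1000000
set_option backward.isDefEq.respectTransparency false

universe u

open CategoryTheory CategoryTheory.Limits AlgebraicGeometry TopologicalSpace
open CategoryTheory.Pretriangulated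
open scoped TensorProduct

attribute [local instance] HasDerivedCategory.standard

noncomputable section

namespace Groth.Agent.PCThick

open Groth.Agent.DCohLib Groth.Agent.DCohMore

variable {X Y : Scheme.{u}}

/-- A homeomorphism whose maps of local rings are surjective with nilpotent kernels. -/
def NilImm (f : X ⟶ Y) : Prop :=
  IsHomeomorph f.base ∧ ∀ x, Function.Surjective (f.stalkMap x).hom ∧ IsNilpotent (RingHom.ker (f.stalkMap x).hom)

theorem surjective_isNilpotent_of_arrowIso {A B A' B' : CommRingCat.{u}} {φ : A ⟶ B} {ψ : A' ⟶ B'}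
    (e : Arrow.mk φ ≅ Arrow.mk ψ) (h : Function.Surjective ψ.hom ∧ IsNilpotent (RingHom.ker ψ.hom)) :
    Function.Surjective φ.hom ∧ IsNilpotent (RingHom.ker φ.hom) := by
  let a : A ≃+* A' := (Arrow.leftFunc.mapIso e).commRingCatIsoToRingEquiv
  let b : B ≃+* B' := (Arrow.rightFunc.mapIso e).commRingCatIsoToRingEquiv
  have hc : ∀ t, b (φ t) = ψ (a t) := fun t =>
    (ConcreteCategory.congr_hom (Arrow.w_mk_left e.hom) t).symm
  refine ⟨fun y => ?_, ?_⟩
  · obtain ⟨t, ht⟩ := h.1 (b y)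
    refine ⟨a.symm t, b.injective ?_⟩
    rw [hc, a.apply_symm_apply]
    exact ht
  · obtain ⟨n, hn⟩ := h.2
    refine ⟨n, ?_⟩
    have hk : RingHom.ker φ.hom = (RingHom.ker ψ.hom).map a.symm.toRingHom := by
      ext t
      refine Iff.trans ?_ (Ideal.mem_map_iff_of_surjective a.symm.toRingHom (show Function.Surjective a.symm.toRingHom from a.symm.surjective)).symm
      refine ⟨fun ht => ⟨a t, ?_, a.symm_apply_apply t⟩, ?_⟩
      · show ψ (a t) = 0
        rw [← hc, RingHom.mem_ker.1 ht, map_zero]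
      · rintro ⟨s, hs, rfl⟩
        refine b.injective ?_
        show b (φ (a.symm s)) = b 0
        rw [hc, a.apply_symm_apply, map_zero]
        exact hs
    rw [hk, ← Ideal.map_pow, hn, Submodule.zero_eq_bot, Ideal.map_bot]
    rfl

theorem NilImm.restrict {f : X ⟶ Y} (hf : NilImm f) (U : Y.Opens) : NilImm (f ∣_ U) := by
  refine ⟨?_, fun x => surjective_isNilpotent_of_arrowIso (morphismRestrictStalkMap f U x) (hf.2 x.1)⟩
  refine (isHomeomorph_iff_isEmbedding_surjective).2 ⟨?_, ?_⟩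
  · rw [morphismRestrict_base]
    exact hf.1.isEmbedding.restrictPreimage _
  · rw [morphismRestrict_base]
    exact Set.restrictPreimage_surjective _ hf.1.surjective

/-- Thickenings of finite order. -/
theorem nilImm_of_thickening (i : X ⟶ Y) (h : MoreMor.IsFiniteOrderThickening i) : NilImm i := by
  haveI := h.1.1
  haveI := h.1.2
  refine ⟨(isHomeomorph_iff_isEmbedding_surjective).2 ⟨i.isClosedEmbedding.isEmbedding, i.surjective⟩,
    fun x => ⟨i.stalkMap_surjective x, ?_⟩⟩
  obtain ⟨U, hU, hxU, -⟩ := exists_isAffineOpen_mem_and_subset (X := Y) (x := i x) (U := ⊤) trivial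
  obtain ⟨n, hn⟩ := h.2
  refine ⟨n, ?_⟩
  rw [RegIdealLib.ker_stalkMap i hU
    (MorphismProperty.of_isPullback (isPullback_morphismRestrict i U).flip h.1.1) x hxU,
    ← Scheme.Hom.ker_apply i ⟨U, hU⟩, ← Ideal.map_pow, ← Pi.pow_apply, ← Scheme.IdealSheafData.ideal_pow, hn]
  simp

theorem isFT_of_pullback (f : X ⟶ Y) (hf₀ : NilImm f) (M : Y.Modules)
    (h : CohB1.IsFT ((Scheme.Modules.pullback f).obj M)) : CohB1.IsFT M := by
  classical
  refine isFT_of_local_epi fun y => ?_
  obtain ⟨x, rfl⟩ := hf₀.1.surjective y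
  letI := (f.stalkMap x).hom.toAlgebra
  haveI := finite_stalk_of_isFT' h x
  obtain ⟨a, -, -⟩ := PullbackMod.exists_stalk_square f (𝟙 M) x
  haveI : Module.Finite (X.presheaf.stalk x)
      (X.presheaf.stalk x ⊗[Y.presheaf.stalk (f x)] M.presheaf.stalk (f x)) := Module.Finite.equiv a.symm
  haveI : Module.Finite (Y.presheaf.stalk (f x)) (M.presheaf.stalk (f x)) :=
    finite_of_tensor (B := X.presheaf.stalk x) (hf₀.2 x).1 (hf₀.2 x).2 _
  obtain ⟨n, t, ht⟩ := Module.Finite.exists_fin (R := Y.presheaf.stalk (f x)) (M := M.presheaf.stalk (f x))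
  choose U₀ hy₀ m₀ hm₀ using fun k => TopCat.Presheaf.exists_germ_eq M.presheaf (t k)
  obtain ⟨U, hy, hU⟩ : ∃ U : Y.Opens, f x ∈ U ∧ ∀ k, U ≤ U₀ k :=
    ⟨⟨⋂ k, (U₀ k : Set Y), isOpen_iInter_of_finite fun k => (U₀ k).2⟩, Set.mem_iInter.2 hy₀,
      fun k => Set.iInter_subset (fun j => (U₀ j : Set Y)) k⟩
  let N := (Scheme.Modules.pullback U.ι).obj M
  let y₀ : (U : Scheme.{u}) := ⟨f x, hy⟩
  let sk : Fin n → Γ(N, ⊤) := fun k =>
    PullbackMod.pullMap U.ι M (W' := ⊤) (W := U₀ k) (fun z _ => hU k z.2) (m₀ k)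
  let u : FlatMod.freeMod (U : Scheme.{u}) n ⟶ N := Sigma.desc fun k => secHom N (sk k)
  have hu : Function.Surjective (PullbackMod.stalkLin u y₀) := by
    have hr : ∀ k, PullbackMod.pullStalk U.ι M y₀ (t k) ∈ LinearMap.range (PullbackMod.stalkLin u y₀) := by
      intro k
      refine ⟨(FlatMod.freeMod (U : Scheme.{u}) n).presheaf.germ ⊤ y₀ trivial
        ((Sigma.ι (fun _ : Fin n => Coh.structureModule (U : Scheme.{u})) k).app ⊤
          (1 : Γ(↑U, ⊤))), ?_⟩
      rw [PullbackMod.stalkLin_germ]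
      have h1 : u.app ⊤ ((Sigma.ι (fun _ : Fin n => Coh.structureModule (U : Scheme.{u})) k).app ⊤
          (1 : Γ(↑U, ⊤))) = sk k := by
        have h2 : Sigma.ι (fun _ : Fin n => Coh.structureModule (U : Scheme.{u})) k ≫ u =
            secHom N (sk k) := Sigma.ι_desc _ _
        refine ((congrArg (fun g : Coh.structureModule (U : Scheme.{u}) ⟶ N =>
          g.app ⊤ (1 : Γ(↑U, ⊤))) h2).trans (secHom_app_one N (sk k) ⊤)).trans ?_
        exact ConcreteCategory.congr_hom (N.presheaf.map_id _) _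
      rw [h1, ← hm₀ k]
      exact (PullbackMod.pullStalk_germ' U.ι M y₀ _ (W' := ⊤) trivial _ (m₀ k)).symm
    letI := (U.ι.stalkMap y₀).hom.toAlgebra
    letI := Module.compHom (N.presheaf.stalk y₀) (U.ι.stalkMap y₀).hom
    haveI : IsScalarTower (Y.presheaf.stalk (U.ι y₀)) ((U : Scheme.{u}).presheaf.stalk y₀)
      (N.presheaf.stalk y₀) := .of_algebraMap_smul fun _ _ => rfl
    rw [← LinearMap.range_eq_top]
    refine eq_top_iff.2 fun z hz => ?_
    clear hz
    let t' : Fin n → M.presheaf.stalk (U.ι y₀) := t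
    have ht' : Submodule.span (Y.presheaf.stalk (U.ι y₀)) (Set.range t') = ⊤ := ht
    induction z using (PullbackMod.isBaseChange_pullStalkL' U.ι M y₀).inductionOn with
    | zero => exact zero_mem _
    | tmul m =>
      have hm : m ∈ Submodule.span (Y.presheaf.stalk (U.ι y₀)) (Set.range t') := ht'.ge Submodule.mem_top
      induction hm using Submodule.span_induction with
      | mem m hm =>
        obtain ⟨k, rfl⟩ := hm
        exact hr k
      | zero => rw [map_zero]; exact zero_mem _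
      | add a b _ _ ha hb => rw [map_add]; exact add_mem ha hb
      | smul r a _ ha =>
        show PullbackMod.pullStalk U.ι M y₀ (r • a) ∈ _
        erw [PullbackMod.pullStalk_smul]
        exact Submodule.smul_mem _ _ ha
    | smul r a ha => exact Submodule.smul_mem _ r ha
    | add a b ha hb => exact add_mem ha hb
  have hx : x ∈ f ⁻¹ᵁ U := hy
  let f' := f ∣_ U
  have hf'' : NilImm f' := hf₀.restrict U
  let u' := (Scheme.Modules.pullback f').map u
  let eP : (Scheme.Modules.pullback f').obj N ≅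
      (Scheme.Modules.restrictFunctor (f ⁻¹ᵁ U).ι).obj ((Scheme.Modules.pullback f).obj M) :=
    (Scheme.Modules.pullbackComp f' U.ι).app M ≪≫
      (Scheme.Modules.pullbackCongr (morphismRestrict_ι f U)).app M ≪≫
      ((Scheme.Modules.pullbackComp (f ⁻¹ᵁ U).ι f).app M).symm ≪≫
      ((Scheme.Modules.restrictFunctorIsoPullback (f ⁻¹ᵁ U).ι).app _).symm
  have hfx : f' ⟨x, hx⟩ = ⟨f x, hy⟩ := Subtype.ext (morphismRestrict_base_coe f U ⟨x, hx⟩)
  have hFT : CohB1.IsFT ((Scheme.Modules.pullback f').obj N) :=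
    Groth.Agent.TildePerf.isFT_of_iso eP.symm (isFT_restrictFunctor _ h)
  obtain ⟨O, hO, hepi⟩ := exists_open_epi_of_stalk u' hFT ⟨x, hx⟩ (by
    obtain ⟨a', b', hab⟩ := PullbackMod.exists_stalk_square f' u ⟨x, hx⟩
    letI := (f'.stalkMap ⟨x, hx⟩).hom.toAlgebra
    intro z
    obtain ⟨w, hw⟩ := LinearMap.lTensor_surjective ((f ⁻¹ᵁ U : Scheme.{u}).presheaf.stalk ⟨x, hx⟩)
      (g := PullbackMod.stalkLin u (f' ⟨x, hx⟩)) (hfx ▸ hu) (b'.symm z)
    exact ⟨a' w, by rw [hab, hw, b'.apply_symm_apply]⟩)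
  have hf' : IsOpenMap f'.base := hf''.1.isOpenMap
  let Q : (U : Scheme.{u}).Opens := ⟨f'.base '' (O : Set (f ⁻¹ᵁ U : Scheme.{u})), hf' _ O.2⟩
  refine ⟨Q, Q.ι ≫ U.ι, inferInstance, ⟨⟨f x, hy⟩, ⟨⟨x, hx⟩, hO, hfx⟩⟩, n,
    (restrictFreeMod Q.ι n).inv ≫ (Scheme.Modules.restrictFunctor Q.ι).map u ≫
      (Scheme.Modules.restrictFunctor Q.ι).map ((Scheme.Modules.restrictFunctorIsoPullback U.ι).inv.app M) ≫
      ((Scheme.Modules.restrictFunctorComp Q.ι U.ι).app M).inv, rfl, ?_⟩
  haveI : Epi ((Scheme.Modules.restrictFunctor Q.ι).map u) := by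
    refine (PullbackMod.epi_iff_stalk _).2 fun q => (surjective_stalkLin_restrict _ u q).2 ?_
    obtain ⟨z, hz, hzq⟩ := q.2
    have hs := (surjective_stalkLin_restrict O.ι u' ⟨z, hz⟩).1
      ((PullbackMod.epi_iff_stalk _).1 hepi ⟨z, hz⟩)
    obtain ⟨a', b', hab⟩ := PullbackMod.exists_stalk_square f' u z
    letI := (f'.stalkMap z).hom.toAlgebra
    have hl : Function.Surjective ((PullbackMod.stalkLin u (f' z)).lTensor
        ((f ⁻¹ᵁ U : Scheme.{u}).presheaf.stalk z)) := fun w => by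
      obtain ⟨v, hv⟩ := hs (b' w)
      refine ⟨a'.symm v, b'.injective ?_⟩
      rw [← hab, a'.apply_symm_apply]
      exact hv
    have h4 : Q.ι q = f' z := hzq.symm
    rw [h4]
    exact surjective_of_lTensor (B := (f ⁻¹ᵁ U : Scheme.{u}).presheaf.stalk z) (hf''.2 z).1 (hf''.2 z).2 _ hl
  exact epi_comp' inferInstance (epi_comp' inferInstance (epi_comp' inferInstance inferInstance))

/-- Vanishing of cohomology in high degrees. -/
theorem aboveZero_of_lpull (f : X ⟶ Y) (hf : NilImm f) [DCoh.HasLpull f] {m : ℤ} (K : DCoh.D Y)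
    (h : AboveZero m ((DCoh.Lpull f).obj K)) : AboveZero m K := fun i hi => by
  let P := (resX Y).obj (DerivedCategory.Q.objPreimage K)
  have hP : DCoh.IsKFlat P := isKFlat_resX _
  have hz : ∀ i, m ≤ i → IsZero (((pullCx f).obj P).homology i) := fun i hi =>
    ((h i hi).of_iso ((DerivedCategory.homologyFunctor X.Modules i).mapIso
      ((lpullIso f P hP (isFlat_resX _)).symm ≪≫ (DCoh.Lpull f).mapIso (resXIso K)))).of_iso
      ((DerivedCategory.homologyFunctorFactors X.Modules i).app _).symm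
  refine IsZero.of_iso ((isZero_homology_iff_stkF P i).2 fun y => ?_)
    ((DerivedCategory.homologyFunctor Y.Modules i).mapIso (resXIso K).symm ≪≫
      (DerivedCategory.homologyFunctorFactors Y.Modules i).app P)
  obtain ⟨x, rfl⟩ := hf.1.surjective y
  refine (HomologicalComplex.exactAt_iff_isZero_homology _ _).1
    (exactAt_of_bc (f.stalkMap x).hom (hf.2 x).1 (hf.2 x).2 ((isKFlat_iff_stalk P).1 hP (f x))
      (fun n => (isFlat_resX (DerivedCategory.Q.objPreimage K) n) (f x)) (fun j hj => ?_) i hi)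
  letI := (f.stalkMap x).hom.toAlgebra
  exact ((HomologicalComplex.exactAt_iff_isZero_homology _ _).2
    ((isZero_homology_iff_stkF _ j).1 (hz j hj) x)).of_iso
      (mapCxSquareIso (Scheme.Modules.pullback f) (stkF x) (stkF (f x))
        (bcF (Y.presheaf.stalk (f x)) (X.presheaf.stalk x)) (pullStalkNatIso f x) P)

/-- The inverse image of the top cohomology. -/
theorem nonempty_HD_lpull_top (f : X ⟶ Y) [DCoh.HasLpull f] (K : DCoh.D Y) (n : ℤ)
    (hK : AboveZero (n + 1) K) :
    Nonempty ((Scheme.Modules.pullback f).obj (DCoh.HD K n) ≅ DCoh.HD ((DCoh.Lpull f).obj K) n) := by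
  let P := DerivedCategory.Q.objPreimage K
  let eP : DerivedCategory.Q.obj P ≅ K := DerivedCategory.Q.objObjPreimageIso K
  haveI : P.IsLE n := (CochainComplex.isLE_iff _ _).2 fun i hi =>
    (HomologicalComplex.exactAt_iff_isZero_homology _ _).2
      (((hK i (by omega)).of_iso ((DerivedCategory.homologyFunctor _ i).mapIso eP)).of_iso
        ((DerivedCategory.homologyFunctorFactors _ i).app P).symm)
  obtain ⟨N, c, hc, hN, hNb⟩ := exists_bdd_flat_resolution Y.sheaf (P.truncLE n) n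
    (fun j hj => CochainComplex.isZero_of_isStrictlyLE (P.truncLE n) n j hj)
  haveI : QuasiIso (C := Y.Modules) c := hc
  haveI : IsIso (DerivedCategory.Q.map (P.ιTruncLE n)) :=
    Localization.inverts DerivedCategory.Q (HomologicalComplex.quasiIso Y.Modules (ComplexShape.up ℤ)) _
      ((HomologicalComplex.mem_quasiIso_iff _).2 inferInstance)
  haveI : IsIso (DerivedCategory.Q.map (C := CochainComplex Y.Modules ℤ) c) :=
    Localization.inverts DerivedCategory.Q (HomologicalComplex.quasiIso Y.Modules (ComplexShape.up ℤ)) _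
      ((HomologicalComplex.mem_quasiIso_iff _).2 hc)
  let e : DCoh.toD Y N ≅ K :=
    asIso (DerivedCategory.Q.map c) ≪≫ asIso (DerivedCategory.Q.map (P.ιTruncLE n)) ≪≫ eP
  have hN' : ∀ j, FlatMod.IsFlat (X := Y) (N.X j) := fun j => (isFlat_iff _).2 (hN j)
  have hNK := isKFlat_of_flat_bddAbove (X := Y) N n hNb hN'
  haveI : PreservesColimitsOfSize.{u, u} (Scheme.Modules.pullback f) :=
    (Scheme.Modules.pullbackPushforwardAdjunction f).leftAdjoint_preservesColimits
  haveI : PreservesColimitsOfSize.{0, 0} (Scheme.Modules.pullback f) :=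
    preservesColimitsOfSize_shrink.{0, u, 0, u} _
  let top : ∀ {Z : Scheme.{u}} (C : CochainComplex Z.Modules ℤ), IsZero (C.X (n + 1)) →
      (C.homology n ≅ cokernel (C.d (n - 1) n)) := fun C hC =>
    C.isoHomologyι n (n + 1) (by simp) (hC.eq_of_tgt _ _) ≪≫
      ((C.opcyclesIsCokernel (n - 1) n (by simp)).coconePointUniqueUpToIso (colimit.isColimit _) :)
  exact ⟨(Scheme.Modules.pullback f).mapIso ((DerivedCategory.homologyFunctor Y.Modules n).mapIso e.symm ≪≫
      (DerivedCategory.homologyFunctorFactors Y.Modules n).app N ≪≫ top (Z := Y) N (hNb _ (by omega))) ≪≫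
    PreservesCokernel.iso (Scheme.Modules.pullback f) (N.d (n - 1) n) ≪≫
    (top (Z := X) ((pullCx f).obj N) ((Scheme.Modules.pullback f).map_isZero (hNb _ (by omega)))).symm ≪≫
    ((DerivedCategory.homologyFunctorFactors X.Modules n).app ((pullCx f).obj N)).symm ≪≫
    (DerivedCategory.homologyFunctor X.Modules n).mapIso
      ((lpullIso f N hNK hN').symm ≪≫ (DCoh.Lpull f).mapIso e)⟩

theorem pc_descent_aux (m : ℤ) : ∀ (d : ℕ) {X Y : Scheme.{u}} (f : X ⟶ Y) [DCoh.HasLpull f],
    NilImm f → ∀ (K : DCoh.D Y), AboveZero (m + d) K →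
    DCoh.IsPseudoCoherentD m ((DCoh.Lpull f).obj K) → DCoh.IsPseudoCoherentD m K := by
  intro d
  induction d with
  | zero =>
    intro X Y f _ _ K hK _
    exact (isPseudoCoherentD_iff m K).2 fun y => ⟨⊤, trivial, pcOn_of_aboveZero ((AboveZero.restrict _ (by simpa using hK : AboveZero m K)))⟩
  | succ d ih =>
    intro X Y f _ hf K hK h
    have hK' : AboveZero (m + d + 1) K := hK.mono (by push_cast; omega)
    have hFT : CohB1.IsFT (DCoh.HD K (m + d)) := by
      obtain ⟨e⟩ := nonempty_HD_lpull_top f K (m + d) hK'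
      refine isFT_of_pullback f hf _ (Groth.Agent.TildePerf.isFT_of_iso e.symm ?_)
      refine isFT_top (isPseudoCoherentD_mono (by omega) h) fun i hi => ?_
      obtain ⟨e'⟩ := nonempty_HD_lpull_top f K i (hK'.mono (by omega))
      exact ((Scheme.Modules.pullback f).map_isZero (hK' i (by omega))).of_iso e'.symm
    refine isPseudoCoherentD_of_local fun y => ?_
    obtain ⟨W, hy, T, hT, h2, h1, h3⟩ := exists_kill_top_sheaf K hK' hFT y
    obtain ⟨e₂⟩ := h2
    refine ⟨W, W.ι, inferInstance, ⟨y, hy⟩, rfl, isPseudoCoherentD_iso e₂ ?_⟩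
    let f' := f ∣_ W
    have hl : DCoh.IsPseudoCoherentD m ((DCoh.Lpull f').obj T.obj₂) := by
      obtain ⟨e⟩ := nonempty_lpull_chart f (f ⁻¹ᵁ W).ι W.ι f' (morphismRestrict_ι f W) K
      exact isPseudoCoherentD_iso (e.symm ≪≫ (DCoh.Lpull f').mapIso e₂.symm)
        (isPseudoCoherentD_restrict _ h)
    refine isPseudoCoherentD_obj₂ T hT (((isPerfect_iff_pc _).1 h1).1 m)
      (ih f' (hf.restrict W) T.obj₃ h3 ?_)
    obtain ⟨c, hc⟩ := BC.exTri_lpull f' T hT
    exact isPseudoCoherentD_obj₃ _ hc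
      (((isPerfect_iff_pc _).1 (isPerfect_lpull f' _ h1)).1 (m + 1)) hl

/-- Pseudo-coherence descends along thickenings. -/
theorem isPseudoCoherentD_of_lpull (f : X ⟶ Y) [DCoh.HasLpull f] (hf : NilImm f) (K : DCoh.D Y) (m : ℤ)
    (h : DCoh.IsPseudoCoherentD m ((DCoh.Lpull f).obj K)) : DCoh.IsPseudoCoherentD m K := by
  refine isPseudoCoherentD_of_local fun y => ?_
  obtain ⟨x, rfl⟩ := hf.1.surjective y
  obtain ⟨V, hx, E, α, hE, hα⟩ := (isPseudoCoherentD_iff m _).1 h x
  obtain ⟨c, hc⟩ : ∃ c : ℕ, AboveZero (m + c) ((DCoh.restrictD V.ι).obj ((DCoh.Lpull f).obj K)) := by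
    obtain ⟨⟨a, b, hab⟩, -⟩ := hE
    refine ⟨(b + 1 - m).toNat + 1, fun i hi => ?_⟩
    haveI := ((mIso_iff m α).1 hα).1 i (by omega)
    exact (isZero_HD_toD (ShortComplex.isZero_homology_of_isZero_X₂ _ (hab i (Or.inr (by omega))))).of_iso
      (asIso ((DerivedCategory.homologyFunctor _ i).map α)).symm
  let U : Y.Opens := ⟨f.base '' (V : Set X), hf.1.isOpenMap _ V.2⟩
  have hUV : f ⁻¹ᵁ U = V := Opens.ext (Set.preimage_image_eq _ hf.1.injective)
  refine ⟨U, U.ι, inferInstance, ⟨f x, ⟨x, hx, rfl⟩⟩, rfl, ?_⟩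
  let f' := f ∣_ U
  obtain ⟨e⟩ := nonempty_lpull_chart f (f ⁻¹ᵁ U).ι U.ι f' (morphismRestrict_ι f U) K
  refine pc_descent_aux m c f' (hf.restrict U) _ (aboveZero_of_lpull f' (hf.restrict U) _ ?_)
    (isPseudoCoherentD_iso e.symm (isPseudoCoherentD_restrict _ h))
  refine AboveZero.of_iso ?_ e
  exact (show ∀ W : X.Opens, W = V → AboveZero (m + c) ((DCoh.restrictD W.ι).obj ((DCoh.Lpull f).obj K)) by
    rintro _ rfl; exact hc) _ hUV

end Groth.Agent.PCThick
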