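import Groth.Agent.DRingLib.Descent
import Groth.Agent.DCohLib.PullKFlat

/-!
# Modules and complexes along a surjection with nilpotent kernel
-/

set_option autoImplicit false
set_option linter.style.haveILetI false
set_option backward.isDefEq.respectTransparency false
set_option maxHeartbeats 1000000

universe u

open CategoryTheory Limits MonoidalCategory TensorProduct
attribute [local instance] HasDerivedCategory.standard

noncomputable section

namespace Groth.Agent.PCThick

open Groth.Agent.DRingLib Groth.Agent.DCohLib Groth.Agent.DTenLib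

variable {A B : Type u} [CommRing A] [CommRing B] [Algebra A B]

theorem smul_top_eq_top_of_tensor (hs : Function.Surjective (algebraMap A B)) (C : Type u) [AddCommGroup C]
    [Module A C] [Subsingleton (B ⊗[A] C)] : (RingHom.ker (algebraMap A B)) • (⊤ : Submodule A C) = ⊤ := by
  let I := RingHom.ker (algebraMap A B)
  have h1 : RingHom.ker (Algebra.ofId A B) = I := rfl
  let e : (A ⧸ I) ≃ₗ[A] B := (Ideal.quotientKerAlgEquivOfSurjective (f := Algebra.ofId A B) hs).toLinearEquiv
  haveI : Subsingleton ((A ⧸ I) ⊗[A] C) := (e.rTensor C).toEquiv.subsingleton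
  haveI := (TensorProduct.quotTensorEquivQuotSMul C I).symm.toEquiv.subsingleton
  exact Submodule.Quotient.subsingleton_iff.1 inferInstance

/-- A module killed by base change is zero. -/
theorem subsingleton_of_tensor (hs : Function.Surjective (algebraMap A B))
    (hn : IsNilpotent (RingHom.ker (algebraMap A B))) (C : Type u) [AddCommGroup C] [Module A C]
    [Subsingleton (B ⊗[A] C)] : Subsingleton C := by
  obtain ⟨n, hn⟩ := hn
  have h : ∀ k : ℕ, (RingHom.ker (algebraMap A B)) ^ k • (⊤ : Submodule A C) = ⊤ := by
    intro k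
    induction k with
    | zero => rw [pow_zero, Submodule.one_smul]
    | succ k ih => rw [pow_succ, Submodule.mul_smul, smul_top_eq_top_of_tensor hs C, ih]
  exact (Submodule.subsingleton_iff A).1 (subsingleton_of_bot_eq_top (by
    rw [← h n, hn, Submodule.zero_eq_bot, Submodule.bot_smul]))

/-- Surjectivity is detected after base change. -/
theorem surjective_of_lTensor (hs : Function.Surjective (algebraMap A B))
    (hn : IsNilpotent (RingHom.ker (algebraMap A B))) {M N : Type u} [AddCommGroup M] [Module A M]
    [AddCommGroup N] [Module A N] (g : M →ₗ[A] N) (h : Function.Surjective (g.lTensor B)) :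
    Function.Surjective g := by
  haveI : Subsingleton (B ⊗[A] (N ⧸ LinearMap.range g)) := subsingleton_of_forall_eq 0 fun x => by
    obtain ⟨y, rfl⟩ := LinearMap.lTensor_surjective B (LinearMap.range g).mkQ_surjective x
    obtain ⟨z, rfl⟩ := h y
    rw [← LinearMap.comp_apply, ← LinearMap.lTensor_comp]
    have : (LinearMap.range g).mkQ.comp g = 0 := LinearMap.range_le_ker_iff.1 (by rw [Submodule.ker_mkQ])
    rw [this, LinearMap.lTensor_zero, LinearMap.zero_apply]
  haveI := subsingleton_of_tensor hs hn (N ⧸ LinearMap.range g)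
  exact LinearMap.range_eq_top.1 (Submodule.Quotient.subsingleton_iff.1 this)

/-- Finiteness is detected after base change. -/
theorem finite_of_tensor (hs : Function.Surjective (algebraMap A B))
    (hn : IsNilpotent (RingHom.ker (algebraMap A B))) (M : Type u) [AddCommGroup M] [Module A M]
    [Module.Finite B (B ⊗[A] M)] : Module.Finite A M := by
  haveI : Module.Finite A B := Module.Finite.of_surjective (Algebra.linearMap A B) hs
  haveI : Module.Finite A (B ⊗[A] M) := Module.Finite.trans B _
  obtain ⟨n, t, ht⟩ := Module.Finite.exists_fin (R := A) (M := B ⊗[A] M)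
  have h1 : Function.Surjective (TensorProduct.mk A B M 1) := TensorProduct.mk_surjective A M B hs
  choose m hm using fun k => h1 (t k)
  refine Module.Finite.of_surjective (Fintype.linearCombination A m) (surjective_of_lTensor hs hn _ ?_)
  rw [← LinearMap.range_eq_top, eq_top_iff, ← ht, Submodule.span_le]
  rintro _ ⟨k, rfl⟩
  exact ⟨1 ⊗ₜ Pi.single k 1, by rw [LinearMap.lTensor_tmul, Fintype.linearCombination_apply_single, one_smul]; exact hm k⟩

omit [Algebra A B] in
/-- Vanishing of cohomology in high degrees is detected after base change. -/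
theorem exactAt_of_bc (φ : A →+* B) (hs : Function.Surjective φ) (hn : IsNilpotent (RingHom.ker φ))
    {P : DRing.Cx A} (hP : DRing.IsKFlat A P)
    (hfl : DRing.TermwiseFlat P) {m : ℤ}
    (h : letI := φ.toAlgebra
      ∀ i, m ≤ i → (((bcF A B).mapHomologicalComplex (ComplexShape.up ℤ)).obj P).ExactAt i) (i : ℤ)
    (hi : m ≤ i) : P.ExactAt i := by
  letI := φ.toAlgebra
  let bcExtIso : bcF A B ≅ ModuleCat.extendScalars.{u, u, u} φ :=
    NatIso.ofComponents (fun M => Iso.refl ((bcF A B).obj M) :) fun f => by
      refine ModuleCat.hom_ext (LinearMap.ext fun z => ?_)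
      rfl
  let Q : DRing.Cx B := (DTen.extCx φ).obj P
  have hQ : ∀ i, m ≤ i → Q.ExactAt i := fun i hi =>
    (h i hi).of_iso ((NatIso.mapHomologicalComplex bcExtIso (ComplexShape.up ℤ)).app P)
  have hQK : DRing.IsKFlat B Q := isKFlat_extCx φ hP
  obtain ⟨N, hb, hN, ⟨e⟩⟩ := exists_proj_representative (K := DRing.toD Q) (n := m - 1)
    fun j hj => (exactAt_iff_isZero_homologyFunctor Q j).1 (hQ j (by omega))
  have key : ∀ M : ModuleCat.{u} B, ((tensM M).obj Q).ExactAt i := fun M => by
    obtain ⟨e'⟩ := nonempty_tensM_iso hQK (isKFlat_of_projective hb hN) e.symm M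
    exact exactAt_of_toD_iso e'.symm i
      (ShortComplex.exact_of_isZero_X₂ _ ((tensorLeft M).map_isZero (hb i (by omega))))
  exact (exactAt_tensM_of_nilpotent hs hn hfl key (𝟙_ (ModuleCat.{u} A))).of_iso (tensUnitIso P)

end Groth.Agent.PCThick
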